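import Groth.Agent.S6295
import Groth.Agent.L03.GeomReduced
import Groth.Agent.L03.GeomReduced2
import Groth.Agent.L13.PseudoComplete.GeomRed
import Mathlib.RingTheory.Smooth.Locus
import Mathlib.RingTheory.Spectrum.Prime.Homeomorph
import Mathlib.FieldTheory.PurelyInseparable.PerfectClosure

/-!
# Generic smoothness

A geometrically reduced algebra of finite presentation over a field is smooth on a dense open; an
algebra of finite type becomes geometrically reduced modulo a nil ideal after a finite purely
inseparable extension of the ground field.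
-/

set_option linter.style.haveILetI false
set_option linter.unusedSectionVars false
set_option backward.isDefEq.respectTransparency.types false

universe u

open TensorProduct

namespace Groth.L20.GenSmooth

variable {k : Type u} [Field k]

theorem isSmoothAt_of_mem_minimalPrimes {A : Type u} [CommRing A] [Algebra k A]
    [Algebra.IsGeometricallyReduced k A] [IsReduced A] (p : PrimeSpectrum A)
    (hp : p.asIdeal ∈ minimalPrimes A) : Algebra.IsSmoothAt k p.asIdeal := by
  letI := ((Groth.Agent.S6295.result A).1 p hp).toField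
  haveI : Algebra.IsGeometricallyReduced k (Localization.AtPrime p.asIdeal) :=
    Groth.L13.PseudoComplete.isGeometricallyReduced_of_isLocalization p.asIdeal.primeCompl _
  exact (Groth.L03.GeomReduced.formallySmooth_iff k (Localization.AtPrime p.asIdeal)).2 inferInstance

theorem dense_smoothLocus {A : Type u} [CommRing A] [Algebra k A]
    [Algebra.IsGeometricallyReduced k A] [IsReduced A] [Algebra.FinitePresentation k A] :
    Dense (Algebra.smoothLocus k A) := by
  intro q
  obtain ⟨P, hP, hPq⟩ := Ideal.exists_minimalPrimes_le (bot_le : ⊥ ≤ q.asIdeal)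
  haveI := hP.1.1
  let p : PrimeSpectrum A := ⟨P, inferInstance⟩
  have hp : p ∈ Algebra.smoothLocus k A := isSmoothAt_of_mem_minimalPrimes p hP
  exact closure_mono (Set.singleton_subset_iff.mpr hp)
    ((PrimeSpectrum.le_iff_mem_closure p q).mp hPq)

theorem isReduced_of_geometricallyReduced {A : Type u} [CommRing A] [Algebra k A]
    [Algebra.IsGeometricallyReduced k A] : IsReduced A := by
  let Ω := AlgebraicClosure k
  haveI : IsReduced (Ω ⊗[k] A) := (Algebra.isGeometricallyReduced_field_iff k A).1 inferInstance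
  exact isReduced_of_injective (Algebra.TensorProduct.includeRight : A →ₐ[k] Ω ⊗[k] A)
    (Algebra.TensorProduct.includeRight_injective (algebraMap k Ω).injective)

section descent

variable {A : Type u} [CommRing A] [Algebra k A] {P : Type u} [Field P] [Algebra k P]

/-- The map `L ⊗ A → P ⊗ A`. -/
noncomputable def incl (L : IntermediateField k P) : L ⊗[k] A →ₐ[k] P ⊗[k] A :=
  Algebra.TensorProduct.map L.val (AlgHom.id k A)

theorem incl_injective (L : IntermediateField k P) : Function.Injective (incl (A := A) L) :=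
  Module.Flat.rTensor_preserves_injective_linearMap L.val.toLinearMap L.val.injective

theorem mem_range_mono {L L' : IntermediateField k P} (h : L ≤ L') {z : P ⊗[k] A}
    (hz : ∃ w, incl L w = z) : ∃ w, incl L' w = z := by
  obtain ⟨w, rfl⟩ := hz
  refine ⟨Algebra.TensorProduct.map (IntermediateField.inclusion h) (AlgHom.id k A) w, ?_⟩
  show (incl L').comp (Algebra.TensorProduct.map (IntermediateField.inclusion h) (AlgHom.id k A)) w = _
  rw [incl, ← Algebra.TensorProduct.map_comp]
  rfl

theorem exists_finite_range_of_finset [Algebra.IsAlgebraic k P] (s : Finset (P ⊗[k] A)) :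
    ∃ L : IntermediateField k P, Module.Finite k L ∧ ∀ z ∈ s, ∃ w, incl L w = z := by
  classical
  induction s using Finset.induction_on with
  | empty => exact ⟨⊥, inferInstance, by simp⟩
  | @insert z s _ ih =>
    obtain ⟨L₁, h₁, h₁'⟩ := ih
    obtain ⟨L₂, h₂, h₂'⟩ := Groth.L03.GeomReduced.exists_finite_mem_range k A P z
    haveI := h₁; haveI := h₂
    refine ⟨L₁ ⊔ L₂, IntermediateField.finiteDimensional_sup L₁ L₂, fun y hy => ?_⟩
    rcases Finset.mem_insert.mp hy with rfl | hy
    · exact mem_range_mono le_sup_right h₂'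
    · exact mem_range_mono le_sup_left (h₁' y hy)

end descent

theorem isNoetherianRing_tensor (A P : Type u) [CommRing A] [Algebra k A] [Algebra.FiniteType k A]
    [Field P] [Algebra k P] : IsNoetherianRing (P ⊗[k] A) :=
  Algebra.FiniteType.isNoetherianRing P (P ⊗[k] A)

theorem ideal_fg_tensor (A P : Type u) [CommRing A] [Algebra k A] [Algebra.FiniteType k A]
    [Field P] [Algebra k P] : (nilradical (P ⊗[k] A)).FG :=
  (isNoetherianRing_iff_ideal_fg _).mp (isNoetherianRing_tensor A P) _

theorem isReduced_baseChange_of_surjective {A L P B C : Type u} [CommRing A] [Algebra k A] [Field L]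
    [Field P] [Algebra k L] [Algebra k P] [Algebra L P] [IsScalarTower k L P]
    [CommRing B] [Algebra k B] [Algebra L B] [IsScalarTower k L B]
    [CommRing C] [Algebra L C] [Algebra P C] [IsScalarTower L P C] [IsReduced C]
    (q : L ⊗[k] A →ₐ[L] B) (hq : Function.Surjective q) (r : P ⊗[k] A →ₐ[P] C)
    (hr : Function.Surjective r) (φ : B →ₐ[L] C)
    (hφ : ∀ x, φ (q x) = r (Algebra.TensorProduct.map (Algebra.ofId L P) (AlgHom.id k A) x))
    (h₂ : RingHom.ker r ≤
      (RingHom.ker q).map (Algebra.TensorProduct.map (Algebra.ofId L P) (AlgHom.id k A)).toRingHom) :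
    IsReduced (P ⊗[L] B) := by
  let ι : L ⊗[k] A →ₐ[L] P ⊗[k] A :=
    Algebra.TensorProduct.map (Algebra.ofId L P) (AlgHom.id k A)
  let Φ : P ⊗[L] B →ₐ[P] C :=
    Algebra.TensorProduct.lift (Algebra.ofId P _) φ (fun _ _ => .all _ _)
  let g : A →ₐ[k] P ⊗[L] B := ((Algebra.TensorProduct.includeRight : B →ₐ[L] P ⊗[L] B).restrictScalars
    k).comp ((q.restrictScalars k).comp Algebra.TensorProduct.includeRight)
  let Ψ : P ⊗[k] A →ₐ[P] P ⊗[L] B :=
    Algebra.TensorProduct.lift (Algebra.ofId P _) g (fun _ _ => .all _ _)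
  have hΨ : ∀ x, Ψ (ι x) = (1 : P) ⊗ₜ[L] q x := fun x => by
    induction x using TensorProduct.induction_on with
    | zero => rw [map_zero, map_zero, map_zero, TensorProduct.tmul_zero]
    | tmul a b =>
      have hab : a ⊗ₜ[k] b = algebraMap L (L ⊗[k] A) a * (1 ⊗ₜ[k] b) := by
        rw [Algebra.TensorProduct.algebraMap_apply, Algebra.TensorProduct.tmul_mul_tmul, one_mul,
          mul_one, Algebra.algebraMap_self, RingHom.id_apply]
      rw [hab, map_mul, map_mul, map_mul, AlgHom.commutes, AlgHom.commutes,
        IsScalarTower.algebraMap_apply L P (P ⊗[k] A), AlgHom.commutes,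
        show (ι (1 ⊗ₜ[k] b) : P ⊗[k] A) = 1 ⊗ₜ[k] b by
          simp only [ι, Algebra.TensorProduct.map_tmul, map_one, AlgHom.id_apply],
        Algebra.TensorProduct.lift_tmul, map_one, one_mul,
        show g b = (1 : P) ⊗ₜ[L] q (1 ⊗ₜ[k] b) from rfl, ← IsScalarTower.algebraMap_apply,
        Algebra.algebraMap_eq_smul_one, smul_one_mul, Algebra.algebraMap_eq_smul_one, smul_one_mul,
        TensorProduct.tmul_smul]
    | add a b ha hb => rw [map_add, map_add, ha, hb, map_add, TensorProduct.tmul_add]
  have hker : RingHom.ker r ≤ RingHom.ker Ψ := h₂.trans (Ideal.map_le_iff_le_comap.mpr fun x hx => by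
    show Ψ (ι x) = 0
    rw [hΨ, RingHom.mem_ker.mp hx, TensorProduct.tmul_zero])
  have hinj : Function.Injective Φ := by
    rw [injective_iff_map_eq_zero]
    intro z hz
    have key : ∀ z, ∀ y, r y = Φ z → Ψ y = z := fun z => by
      induction z using TensorProduct.induction_on with
      | zero =>
        intro y hy
        rw [map_zero] at hy
        exact hker hy
      | tmul p b =>
        intro y hy
        obtain ⟨x, rfl⟩ := hq b
        have h1 : y - algebraMap P _ p * ι x ∈ RingHom.ker r := by
          rw [RingHom.mem_ker, map_sub, map_mul, AlgHom.commutes, hy, Algebra.TensorProduct.lift_tmul,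
            Algebra.ofId_apply, hφ, sub_self]
        have h2 := hker h1
        rw [RingHom.mem_ker, map_sub, map_mul, AlgHom.commutes, hΨ, sub_eq_zero] at h2
        rw [h2, Algebra.TensorProduct.algebraMap_apply, Algebra.TensorProduct.tmul_mul_tmul, mul_one,
          one_mul, Algebra.algebraMap_self, RingHom.id_apply]
      | add a b ha hb =>
        intro y hy
        obtain ⟨ya, hya⟩ := hr (Φ a)
        have := hb (y - ya) (by rw [map_sub, hy, hya, map_add]; abel)
        rw [map_sub, ha ya hya, sub_eq_iff_eq_add] at this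
        rw [this, add_comm]
    have := key z 0 (by rw [map_zero, hz])
    rw [← this, map_zero]
  exact isReduced_of_injective Φ hinj

theorem isReduced_baseChange_quotient {A L P : Type u} [CommRing A] [Algebra k A] [Field L] [Field P]
    [Algebra k L] [Algebra k P] [Algebra L P] [IsScalarTower k L P] (I : Ideal (L ⊗[k] A))
    (h₁ : ∀ x ∈ I, IsNilpotent
      (Algebra.TensorProduct.map (Algebra.ofId L P) (AlgHom.id k A) x))
    (h₂ : nilradical (P ⊗[k] A) ≤
      I.map (Algebra.TensorProduct.map (Algebra.ofId L P) (AlgHom.id k A)).toRingHom) :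
    IsReduced (P ⊗[L] ((L ⊗[k] A) ⧸ I)) := by
  haveI : IsReduced ((P ⊗[k] A) ⧸ nilradical (P ⊗[k] A)) :=
    (Ideal.isRadical_iff_quotient_reduced _).mp (Ideal.radical_isRadical _)
  refine isReduced_baseChange_of_surjective (Ideal.Quotient.mkₐ L I) Ideal.Quotient.mk_surjective
    (Ideal.Quotient.mkₐ P (nilradical (P ⊗[k] A))) Ideal.Quotient.mk_surjective
    (Ideal.Quotient.liftₐ I ((Ideal.Quotient.mkₐ L (nilradical (P ⊗[k] A))).comp
      (Algebra.TensorProduct.map (Algebra.ofId L P) (AlgHom.id k A)))
      (fun x hx => Ideal.Quotient.eq_zero_iff_mem.mpr (mem_nilradical.mpr (h₁ x hx))))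
    (fun x => rfl) ?_
  rwa [show RingHom.ker (Ideal.Quotient.mkₐ P (nilradical (P ⊗[k] A))) = nilradical (P ⊗[k] A) from
    Ideal.mk_ker, show RingHom.ker (Ideal.Quotient.mkₐ L I) = I from Ideal.mk_ker]

theorem isGeometricallyReduced_of_perfect {L P Ω B : Type u} [Field L] [Field P] [PerfectField P]
    [Field Ω] [Algebra L P] [Algebra L Ω] [Algebra P Ω] [IsScalarTower L P Ω] [IsAlgClosed Ω]
    [Algebra.IsAlgebraic L Ω] [CommRing B] [Algebra L B] [IsReduced (P ⊗[L] B)] :
    Algebra.IsGeometricallyReduced L B := by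
  haveI : Algebra.IsAlgebraic P Ω := Algebra.IsAlgebraic.tower_top (K := L) P
  haveI : IsReduced (Ω ⊗[L] B) := Groth.L03.GeomReduced2.isReduced_baseChange_perfect L B P Ω
  haveI : IsAlgClosure L Ω := ⟨inferInstance, inferInstance⟩
  rw [Algebra.isGeometricallyReduced_field_iff]
  let e : AlgebraicClosure L →ₐ[L] Ω := (IsAlgClosure.equiv L (AlgebraicClosure L) Ω).toAlgHom
  exact isReduced_of_injective (Algebra.TensorProduct.map e (AlgHom.id L B))
    (Module.Flat.rTensor_preserves_injective_linearMap e.toLinearMap e.injective)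

theorem map_ofId_eq {A P L : Type u} [CommRing A] [Algebra k A] [Field P] [Algebra k P] [Field L]
    [Algebra k L] [Algebra L P] [IsScalarTower k L P] (x : L ⊗[k] A) :
    Algebra.TensorProduct.map (Algebra.ofId L P) (AlgHom.id k A) x =
      Algebra.TensorProduct.map (IsScalarTower.toAlgHom k L P) (AlgHom.id k A) x := by
  induction x using TensorProduct.induction_on with
  | zero => rw [map_zero, map_zero]
  | tmul a b => rfl
  | add a b ha hb => rw [map_add, map_add, ha, hb]

theorem exists_ideal {A P : Type u} [CommRing A] [Algebra k A] [Field P] [Algebra k P]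
    (L : Type u) [Field L] [Algebra k L] [Algebra L P] [IsScalarTower k L P] (s : Finset (P ⊗[k] A))
    (hs : Ideal.span (s : Set (P ⊗[k] A)) = nilradical (P ⊗[k] A))
    (w : ∀ z ∈ s, ∃ w, Algebra.TensorProduct.map (IsScalarTower.toAlgHom k L P) (AlgHom.id k A) w = z) :
    ∃ I : Ideal (L ⊗[k] A), I ≤ nilradical (L ⊗[k] A) ∧ IsReduced (P ⊗[L] ((L ⊗[k] A) ⧸ I)) := by
  choose w hw' using w
  have hw : ∀ z hz, Algebra.TensorProduct.map (Algebra.ofId L P) (AlgHom.id k A) (w z hz) = z :=
    fun z hz => (map_ofId_eq _).trans (hw' z hz)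
  refine ⟨Ideal.span (Set.range fun z : ↥s => w z.1 z.2 : Set (L ⊗[k] A)), ?_, ?_⟩
  · refine Ideal.span_le.mpr ?_
    rintro _ ⟨z, rfl⟩
    refine mem_nilradical.mpr ((IsNilpotent.map_iff
      (f := (Algebra.TensorProduct.map (Algebra.ofId L P) (AlgHom.id k A)).toRingHom)
      (Module.Flat.rTensor_preserves_injective_linearMap
        ((Algebra.ofId L P).restrictScalars k).toLinearMap (algebraMap L P).injective)).mp ?_)
    show IsNilpotent (Algebra.TensorProduct.map (Algebra.ofId L P) (AlgHom.id k A) (w z.1 z.2))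
    rw [hw]
    exact mem_nilradical.mp (hs ▸ Ideal.subset_span z.2)
  refine isReduced_baseChange_quotient _ (fun x hx => ?_) ?_
  · refine mem_nilradical.mp (((Ideal.span_le (I := (nilradical (P ⊗[k] A)).comap
      (Algebra.TensorProduct.map (Algebra.ofId L P) (AlgHom.id k A)).toRingHom))).mpr ?_ hx)
    rintro _ ⟨z, rfl⟩
    show Algebra.TensorProduct.map (Algebra.ofId L P) (AlgHom.id k A) (w z.1 z.2) ∈ nilradical (P ⊗[k] A)
    rw [hw]
    exact hs ▸ Ideal.subset_span z.2
  · rw [← hs, Ideal.span_le]
    intro z hz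
    rw [← hw z hz]
    exact Ideal.mem_map_of_mem _ (Ideal.subset_span ⟨⟨z, hz⟩, rfl⟩)

/-- After a finite purely inseparable extension, a finite type algebra is geometrically reduced
modulo a nil ideal. -/
theorem exists_purelyInseparable (A : Type u) [CommRing A] [Algebra k A] [Algebra.FiniteType k A] :
    ∃ (k' : Type u) (_ : Field k') (_ : Algebra k k') (_ : Module.Finite k k')
      (_ : IsPurelyInseparable k k') (I : Ideal (k' ⊗[k] A)),
      I ≤ nilradical (k' ⊗[k] A) ∧ Algebra.IsGeometricallyReduced k' ((k' ⊗[k] A) ⧸ I) := by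
  classical
  let Ω := AlgebraicClosure k
  let P := perfectClosure k Ω
  obtain ⟨s, hs⟩ := ideal_fg_tensor (k := k) A P
  obtain ⟨L, hL, hL'⟩ := exists_finite_range_of_finset s
  haveI := hL
  haveI : IsPurelyInseparable k L := IsPurelyInseparable.tower_bot k L P
  obtain ⟨I, hI, hI'⟩ := exists_ideal (P := P) L s hs fun z hz => by
    obtain ⟨w, hw⟩ := hL' z hz
    refine ⟨w, ?_⟩
    rw [← hw, incl, show IsScalarTower.toAlgHom k L P = L.val from AlgHom.ext fun _ => rfl]
  haveI : Algebra.IsAlgebraic L Ω := Algebra.IsAlgebraic.tower_top (K := k) L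
  exact ⟨L, inferInstance, inferInstance, inferInstance, inferInstance, I, hI,
    (haveI := hI'; isGeometricallyReduced_of_perfect (P := P) (Ω := Ω))⟩

/-- The composite `A → (k' ⊗ A) ⧸ I` is a homeomorphism on spectra. -/
theorem isHomeomorph_comap {A : Type u} [CommRing A] [Algebra k A] (k' : Type u) [Field k']
    [Algebra k k'] [IsPurelyInseparable k k'] (I : Ideal (k' ⊗[k] A))
    (hI : I ≤ nilradical (k' ⊗[k] A)) :
    IsHomeomorph (PrimeSpectrum.comap ((Ideal.Quotient.mk I).comp
      (Algebra.TensorProduct.includeRight : A →ₐ[k] k' ⊗[k] A).toRingHom)) := by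
  refine PrimeSpectrum.isHomeomorph_comap _ (fun x => ?_) fun a ha => ?_
  · obtain ⟨y, rfl⟩ := Ideal.Quotient.mk_surjective x
    obtain ⟨n, hn, a, ha⟩ := IsPurelyInseparable.exists_pow_mem_range_tensorProduct
      (Algebra.TensorProduct.comm k k' A y)
    refine ⟨n, hn, a, ?_⟩
    rw [RingHom.comp_apply, ← map_pow]
    congr 1
    apply (Algebra.TensorProduct.comm k k' A).injective
    rw [map_pow, ← ha]
    rfl
  · rw [RingHom.mem_ker, RingHom.comp_apply, Ideal.Quotient.eq_zero_iff_mem] at ha
    exact mem_nilradical.mpr ((IsNilpotent.map_iff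
      (Algebra.TensorProduct.includeRight_injective (algebraMap k k').injective)).mp
        (mem_nilradical.mp (hI ha)))

end Groth.L20.GenSmooth
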