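import Groth.Agent.L20.GenSmooth.Ring
import Mathlib.AlgebraicGeometry.Limits
import Mathlib.AlgebraicGeometry.Morphisms.Smooth
import Mathlib.AlgebraicGeometry.Noetherian
import Mathlib.AlgebraicGeometry.Pullbacks

/-!
# Dense affine opens and generic smoothness after a purely inseparable extension
-/

set_option linter.style.haveILetI false
set_option backward.isDefEq.respectTransparency.types false

universe u

open AlgebraicGeometry CategoryTheory Limits TensorProduct TopologicalSpace

namespace Groth.L20.GenSmooth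

/-- A scheme with Noetherian underlying space has a dense affine open. -/
theorem exists_dense_isAffineOpen (X : Scheme.{u}) [NoetherianSpace X] :
    ∃ U : X.Opens, IsAffineOpen U ∧ Dense (U : Set X) := by
  classical
  let I := {Z : Set X // Z ∈ irreducibleComponents X}
  haveI : Finite I := NoetherianSpace.finite_irreducibleComponents.to_subtype
  haveI := Fintype.ofFinite I
  have hO : ∀ Z : I, ∃ V : X.Opens, IsAffineOpen V ∧ (Z.1 ∩ V).Nonempty ∧
      ∀ W : I, W ≠ Z → Disjoint (V : Set X) W.1 := fun Z => by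
    let F : Set X := ⋃ W ∈ ({Z}ᶜ : Set I), W.1
    have hF : IsClosed F := (Set.toFinite _).isClosed_biUnion fun W _ =>
      isClosed_of_mem_irreducibleComponents W.1 W.2
    have hne : ¬ Z.1 ⊆ F := fun h => by
      obtain ⟨C, hC, hZC⟩ := (isIrreducible_iff_sUnion_isClosed.mp Z.2.1)
        ((Finset.univ.filter (· ≠ Z)).image Subtype.val) (fun C hC => by
          obtain ⟨W, -, rfl⟩ := Finset.mem_image.mp hC
          exact isClosed_of_mem_irreducibleComponents W.1 W.2) (fun x hx => by
          obtain ⟨W, hW, hxW⟩ := Set.mem_iUnion₂.mp (h hx)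
          exact ⟨W.1, Finset.mem_coe.mpr (Finset.mem_image.mpr ⟨W, Finset.mem_filter.mpr
            ⟨Finset.mem_univ _, hW⟩, rfl⟩), hxW⟩)
      obtain ⟨W, hW, rfl⟩ := Finset.mem_image.mp hC
      exact (Finset.mem_filter.mp hW).2 (Subtype.ext ((Z.2.2 W.2.1 hZC).antisymm hZC))
    obtain ⟨x, hxZ, hxF⟩ := Set.not_subset.mp hne
    obtain ⟨_, ⟨V, hV, rfl⟩, hxV, hVF⟩ :=
      X.isBasis_affineOpens.exists_subset_of_mem_open (show x ∈ Fᶜ from hxF) hF.isOpen_compl
    refine ⟨V, hV, ⟨x, hxZ, hxV⟩, fun W hW => ?_⟩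
    rw [Set.disjoint_left]
    exact fun y hy hyW => hVF hy (Set.mem_iUnion₂.mpr ⟨W, hW, hyW⟩)
  choose V hV hne hdisj using hO
  refine ⟨⨆ Z, V Z, IsAffineOpen.iSup_of_disjoint hV fun Z W hZW => ?_, fun x => ?_⟩
  · rw [Function.onFun, disjoint_iff_inf_le]
    intro y ⟨hyZ, hyW⟩
    have hy : y ∈ irreducibleComponent y := mem_irreducibleComponent
    let Y : I := ⟨irreducibleComponent y, irreducibleComponent_mem_irreducibleComponents y⟩
    have h1 : Y = Z := by
      by_contra h
      exact Set.disjoint_left.mp (hdisj Z Y h) hyZ hy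
    have h2 : Y = W := by
      by_contra h
      exact Set.disjoint_left.mp (hdisj W Y h) hyW hy
    exact absurd (h1.symm.trans h2) hZW
  · let Y : I := ⟨irreducibleComponent x, irreducibleComponent_mem_irreducibleComponents x⟩
    have h := subset_closure_inter_of_isPreirreducible_of_isOpen Y.2.1.2 (V Y).2 (hne Y)
      mem_irreducibleComponent
    exact closure_mono (Set.inter_subset_right.trans (SetLike.coe_subset_coe.mpr (le_iSup V Y))) h

theorem exists_dense_basicOpen {A : Type u} [CommRing A] [IsNoetherianRing A]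
    {W : Set (PrimeSpectrum A)} (hW : IsOpen W) (hd : Dense W) :
    ∃ a : A, (PrimeSpectrum.basicOpen a : Set (PrimeSpectrum A)) ⊆ W ∧
      Dense (PrimeSpectrum.basicOpen a : Set (PrimeSpectrum A)) := by
  classical
  obtain ⟨J, hJ⟩ := (PrimeSpectrum.isClosed_iff_zeroLocus_ideal _).mp hW.isClosed_compl
  have hfin := minimalPrimes.finite_of_isNoetherianRing A
  have hnot : ∀ P ∈ minimalPrimes A, ¬ J ≤ P := fun P hP hle => by
    haveI := hP.1.1
    let p : PrimeSpectrum A := ⟨P, inferInstance⟩
    let M : Set (PrimeSpectrum A) :=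
      ⋃ Q ∈ minimalPrimes A \ {P}, PrimeSpectrum.zeroLocus (Q : Set A)
    have hM : IsClosed M := hfin.diff.isClosed_biUnion fun Q _ => PrimeSpectrum.isClosed_zeroLocus _
    have hpM : p ∉ M := fun h => by
      obtain ⟨Q, hQ, hpQ⟩ := Set.mem_iUnion₂.mp h
      haveI := hQ.1.1.1
      exact hQ.2 (le_antisymm hpQ (hP.2 hQ.1.1 hpQ))
    obtain ⟨q, hqW, hqM⟩ := hd.exists_mem_open hM.isOpen_compl ⟨p, hpM⟩
    obtain ⟨Q, hQ, hQq⟩ := Ideal.exists_minimalPrimes_le (bot_le : ⊥ ≤ q.asIdeal)
    have hQP : Q = P := by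
      by_contra h
      exact hqM (Set.mem_iUnion₂.mpr ⟨Q, ⟨hQ, h⟩, hQq⟩)
    have h1 : q ∈ PrimeSpectrum.zeroLocus (J : Set A) := hle.trans (hQP ▸ hQq)
    rw [← hJ] at h1
    exact h1 hqW
  have hsub : ¬ (J : Set A) ⊆ ⋃ P ∈ (hfin.toFinset : Set (Ideal A)), P := fun h => by
    obtain ⟨P, hP, hle⟩ := (Ideal.subset_union_prime (s := hfin.toFinset) (f := id) ⊥ ⊥
      (fun P hP _ _ => (hfin.mem_toFinset.mp hP).1.1)).mp h
    exact hnot P (hfin.mem_toFinset.mp hP) hle
  obtain ⟨a, haJ, ha⟩ := Set.not_subset.mp hsub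
  refine ⟨a, fun q hq => not_not.mp fun hqW => hq ?_, fun q => ?_⟩
  · have h1 : q ∈ PrimeSpectrum.zeroLocus (J : Set A) := hJ ▸ hqW
    exact h1 haJ
  · obtain ⟨Q, hQ, hQq⟩ := Ideal.exists_minimalPrimes_le (bot_le : ⊥ ≤ q.asIdeal)
    haveI := hQ.1.1
    refine closure_mono (Set.singleton_subset_iff.mpr ?_)
      ((PrimeSpectrum.le_iff_mem_closure (⟨Q, inferInstance⟩ : PrimeSpectrum A) q).mp hQq)
    exact fun h => ha (Set.mem_iUnion₂.mpr ⟨Q, hfin.mem_toFinset.mpr hQ, h⟩)

theorem exists_surjective_away {k A k' : Type u} [Field k] [CommRing A] [Algebra k A] [Field k']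
    [Algebra k k'] (a : A) {B C : Type u} [CommRing B] [Algebra k' B] [Algebra k B]
    [IsScalarTower k k' B] [CommRing C] [Algebra B C] [Algebra k' C] [Algebra k C]
    [IsScalarTower k' B C] [IsScalarTower k B C] [IsScalarTower k k' C]
    (ψ : k' ⊗[k] A →ₐ[k'] B) (hψ : Function.Surjective ψ)
    [IsLocalization.Away (ψ (1 ⊗ₜ a)) C] :
    ∃ χ : k' ⊗[k] Localization.Away a →ₐ[k'] C, Function.Surjective χ ∧
      ∀ x, χ (1 ⊗ₜ algebraMap A (Localization.Away a) x) = algebraMap B C (ψ (1 ⊗ₜ x)) := by
  let g : A →ₐ[k] C := ((IsScalarTower.toAlgHom k B C).comp (ψ.restrictScalars k)).comp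
    Algebra.TensorProduct.includeRight
  have hg : ∀ y : Submonoid.powers a, IsUnit (g y) := by
    rintro ⟨_, n, rfl⟩
    show IsUnit (g (a ^ n))
    rw [map_pow]
    exact (IsLocalization.Away.algebraMap_isUnit (S := C) (ψ (1 ⊗ₜ a))).pow n
  let h : Localization.Away a →ₐ[k] C := IsLocalization.liftAlgHom hg
  have hh : ∀ x, h (algebraMap A (Localization.Away a) x) = algebraMap B C (ψ (1 ⊗ₜ x)) :=
    fun x => IsLocalization.lift_eq hg x
  let χ : k' ⊗[k] Localization.Away a →ₐ[k'] C :=
    Algebra.TensorProduct.lift (Algebra.ofId k' C) h (fun _ _ => .all _ _)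
  let res : k' ⊗[k] A →ₐ[k'] k' ⊗[k] Localization.Away a :=
    Algebra.TensorProduct.map (AlgHom.id k' k') (IsScalarTower.toAlgHom k A (Localization.Away a))
  have hres : ∀ z, χ (res z) = algebraMap B C (ψ z) := fun z => by
    induction z using TensorProduct.induction_on with
    | zero => rw [map_zero, map_zero, map_zero, map_zero]
    | tmul c x =>
      rw [Algebra.TensorProduct.map_tmul, Algebra.TensorProduct.lift_tmul,
        IsScalarTower.coe_toAlgHom', hh, AlgHom.id_apply, Algebra.ofId_apply,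
        IsScalarTower.algebraMap_apply k' B C, ← map_mul, ← AlgHom.commutes ψ, ← map_mul,
        Algebra.TensorProduct.algebraMap_apply, Algebra.TensorProduct.tmul_mul_tmul, mul_one,
        one_mul, Algebra.algebraMap_self, RingHom.id_apply]
    | add c d hc hd => rw [map_add, map_add, hc, hd, map_add, map_add]
  refine ⟨χ, fun y => ?_, fun x => ?_⟩
  · obtain ⟨n, b, hb⟩ := IsLocalization.Away.surj (ψ (1 ⊗ₜ a)) y
    obtain ⟨z, rfl⟩ := hψ b
    refine ⟨res z * ((1 : k') ⊗ₜ[k] (IsLocalization.Away.invSelf a ^ n)), ?_⟩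
    have h1 : h (IsLocalization.Away.invSelf a) * algebraMap B C (ψ (1 ⊗ₜ a)) = 1 := by
      rw [← hh, ← map_mul, mul_comm, IsLocalization.Away.mul_invSelf, map_one]
    rw [map_mul, hres, Algebra.TensorProduct.lift_tmul, map_one, one_mul, map_pow, ← hb, mul_assoc,
      ← mul_pow, mul_comm (algebraMap B C _), h1, one_pow, mul_one]
  · rw [Algebra.TensorProduct.lift_tmul, map_one, one_mul, hh]

/-- Generic smoothness after a finite purely inseparable extension, affine form. -/
theorem exists_smooth_quotient (k A : Type u) [Field k] [CommRing A] [Algebra k A]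
    [Algebra.FiniteType k A] :
    ∃ (a : A) (_ : Dense (PrimeSpectrum.basicOpen a : Set (PrimeSpectrum A))) (k' : Type u)
      (_ : Field k') (_ : Algebra k k') (_ : Module.Finite k k') (_ : IsPurelyInseparable k k')
      (C : Type u) (_ : CommRing C) (_ : _root_.IsReduced C) (_ : Algebra k' C) (_ : Algebra.Smooth k' C)
      (χ : k' ⊗[k] Localization.Away a →ₐ[k'] C),
      Function.Surjective χ ∧ Function.Surjective (PrimeSpectrum.comap χ.toRingHom) := by
  obtain ⟨k', _, _, _, _, I, hI, hgr⟩ := exists_purelyInseparable (k := k) A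
  haveI := hgr
  let B := (k' ⊗[k] A) ⧸ I
  haveI : _root_.IsReduced B := isReduced_of_geometricallyReduced (k := k')
  haveI : Algebra.FinitePresentation k' B :=
    (Algebra.FinitePresentation.of_finiteType (R := k') (A := B)).mp inferInstance
  haveI : IsNoetherianRing A := Algebra.FiniteType.isNoetherianRing k A
  let φ : A →+* B := (Ideal.Quotient.mk I).comp
    (Algebra.TensorProduct.includeRight : A →ₐ[k] k' ⊗[k] A).toRingHom
  have hφ : IsHomeomorph (PrimeSpectrum.comap φ) := isHomeomorph_comap k' I hI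
  obtain ⟨a, haW, ha⟩ := exists_dense_basicOpen (A := A)
    (hφ.isOpenMap _ (Algebra.isOpen_smoothLocus (R := k') (A := B)))
    (hφ.surjective.denseRange.dense_image hφ.continuous dense_smoothLocus)
  have hsm : (PrimeSpectrum.basicOpen (φ a) : Set (PrimeSpectrum B)) ⊆ Algebra.smoothLocus k' B :=
    fun q hq => by
      obtain ⟨q', hq', he⟩ := haW (show PrimeSpectrum.comap φ q ∈ PrimeSpectrum.basicOpen a from hq)
      exact hφ.injective he ▸ hq'
  let C := Localization.Away (φ a)
  haveI : Algebra.Smooth k' C := Algebra.basicOpen_subset_smoothLocus_iff_smooth.mp hsm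
  haveI : _root_.IsReduced C := inferInstance
  haveI : IsLocalization.Away ((Ideal.Quotient.mkₐ k' I) (1 ⊗ₜ[k] a)) C :=
    (inferInstance : IsLocalization.Away (φ a) C)
  obtain ⟨χ, hχ, hχa⟩ := exists_surjective_away (k := k) a (C := C) (Ideal.Quotient.mkₐ k' I)
    Ideal.Quotient.mk_surjective
  refine ⟨a, ha, k', inferInstance, inferInstance, inferInstance, inferInstance, C, inferInstance,
    inferInstance, inferInstance, inferInstance, χ, hχ, fun q => ?_⟩
  let ι : Localization.Away a →+* k' ⊗[k] Localization.Away a :=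
    (Algebra.TensorProduct.includeRight : _ →ₐ[k] k' ⊗[k] Localization.Away a).toRingHom
  have hι : Function.Injective (PrimeSpectrum.comap ι) := by
    have := (isHomeomorph_comap (k := k) (A := Localization.Away a) k' ⊥ bot_le).injective
    intro q₁ q₂ h12
    obtain ⟨r₁, rfl⟩ := (PrimeSpectrum.comap_quotientMk_bijective_of_le_nilradical
      (I := (⊥ : Ideal (k' ⊗[k] Localization.Away a))) bot_le).2 q₁
    obtain ⟨r₂, rfl⟩ := (PrimeSpectrum.comap_quotientMk_bijective_of_le_nilradical
      (I := (⊥ : Ideal (k' ⊗[k] Localization.Away a))) bot_le).2 q₂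
    exact congrArg _ (this h12)
  let p := PrimeSpectrum.comap (algebraMap A (Localization.Away a)) (PrimeSpectrum.comap ι q)
  obtain ⟨r, hr⟩ := hφ.surjective p
  have hpa : p ∈ PrimeSpectrum.basicOpen a := by
    have : p ∈ Set.range (PrimeSpectrum.comap (algebraMap A (Localization.Away a))) := ⟨_, rfl⟩
    rwa [PrimeSpectrum.localization_away_comap_range (Localization.Away a) a] at this
  have hra : r ∈ Set.range (PrimeSpectrum.comap (algebraMap B C)) := by
    rw [PrimeSpectrum.localization_away_comap_range C (φ a)]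
    exact fun h => hpa (hr ▸ h)
  obtain ⟨c, rfl⟩ := hra
  refine ⟨c, hι (PrimeSpectrum.localization_comap_injective (Localization.Away a)
    (Submonoid.powers a) ?_)⟩
  refine Eq.trans ?_ hr
  rw [← PrimeSpectrum.comap_comp_apply, ← PrimeSpectrum.comap_comp_apply,
    ← PrimeSpectrum.comap_comp_apply]
  congr 1
  exact RingHom.ext hχa

/-- Generic smoothness after a finite purely inseparable extension. -/
theorem exists_dense_open_smooth (k : Type u) [Field k] {X : Scheme.{u}}
    (f : X ⟶ Spec (CommRingCat.of k)) [LocallyOfFiniteType f] [QuasiCompact f] :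
    ∃ (U : X.Opens) (_ : Dense (U : Set X)) (k' : Type u) (_ : Field k') (_ : Algebra k k')
      (_ : Module.Finite k k') (_ : IsPurelyInseparable k k') (Z : Scheme.{u}) (_ : IsReduced Z)
      (i : Z ⟶ pullback (U.ι ≫ f) (Spec.map (CommRingCat.ofHom (algebraMap k k')))),
      IsClosedImmersion i ∧ Function.Surjective i.base ∧
      Smooth (i ≫ pullback.snd (U.ι ≫ f) (Spec.map (CommRingCat.ofHom (algebraMap k k')))) := by
  haveI : IsLocallyNoetherian X := LocallyOfFiniteType.isLocallyNoetherian f
  haveI : CompactSpace X := QuasiCompact.compactSpace_of_compactSpace f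
  haveI : IsNoetherian X := ⟨⟩
  obtain ⟨V, hV, hVd⟩ := exists_dense_isAffineOpen X
  obtain ⟨φ₀, hφ₀⟩ := Spec.map_surjective (hV.fromSpec ≫ f)
  letI : Algebra k Γ(X, V) := φ₀.hom.toAlgebra
  haveI : Algebra.FiniteType k Γ(X, V) := by
    have h : LocallyOfFiniteType (Spec.map φ₀) := hφ₀ ▸ inferInstance
    exact (HasRingHomProperty.Spec_iff (P := @LocallyOfFiniteType)).mp h
  obtain ⟨a, ha, k', _, _, _, _, C, _, _, _, _, χ, hχ, hχs⟩ := exists_smooth_quotient k Γ(X, V)
  let ℓ := CommRingCat.ofHom (algebraMap Γ(X, V) (Localization.Away a))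
  haveI : IsOpenImmersion (Spec.map ℓ) := IsOpenImmersion.of_isLocalization a
  let j := Spec.map ℓ ≫ hV.fromSpec
  have hd : Dense (j.opensRange : Set X) := by
    rw [Scheme.Hom.coe_opensRange, Scheme.Hom.comp_base, TopCat.coe_comp, Set.range_comp,
      show Set.range ⇑(Spec.map ℓ) = (PrimeSpectrum.basicOpen a : Set (PrimeSpectrum Γ(X, V))) from
        PrimeSpectrum.localization_away_comap_range (Localization.Away a) a]
    refine (DenseRange.dense_image ?_ hV.fromSpec.continuous ha)
    show Dense (Set.range ⇑hV.fromSpec)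
    rwa [hV.range_fromSpec]
  let g := Spec.map (CommRingCat.ofHom (algebraMap k k'))
  let e : pullback (Spec.map (CommRingCat.ofHom (algebraMap k k')))
      (Spec.map (CommRingCat.ofHom (algebraMap k (Localization.Away a)))) ⟶
      pullback (j.opensRange.ι ≫ f) g :=
    (pullbackSymmetry _ _).hom ≫ pullback.map _ _ _ _ j.isoOpensRange.hom (𝟙 _) (𝟙 _) (by
      rw [Category.comp_id, ← Category.assoc, Scheme.Hom.isoOpensRange_hom_ι, Category.assoc,
        ← hφ₀, ← Spec.map_comp]
      rfl) (by rw [Category.comp_id, Category.id_comp])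
  haveI : IsClosedImmersion (Spec.map (CommRingCat.ofHom χ.toRingHom)) :=
    IsClosedImmersion.spec_of_surjective _ hχ
  refine ⟨j.opensRange, hd, k', inferInstance, inferInstance, inferInstance, inferInstance,
    Spec (CommRingCat.of C), inferInstance,
    Spec.map (CommRingCat.ofHom χ.toRingHom) ≫ (pullbackSpecIso k k' (Localization.Away a)).inv ≫ e,
    inferInstance, ?_, ?_⟩
  · rw [Scheme.Hom.comp_base, TopCat.coe_comp, Scheme.Hom.comp_base, TopCat.coe_comp]
    refine Function.Surjective.comp (Function.Surjective.comp ?_ ?_) hχs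
    · exact e.surjective
    · exact (pullbackSpecIso k k' (Localization.Away a)).inv.surjective
  · have : (Spec.map (CommRingCat.ofHom χ.toRingHom) ≫
        (pullbackSpecIso k k' (Localization.Away a)).inv ≫ e) ≫
        pullback.snd (j.opensRange.ι ≫ f) g = Spec.map (CommRingCat.ofHom (algebraMap k' C)) := by
      rw [Category.assoc, Category.assoc, Category.assoc, pullback.map, pullback.lift_snd,
        Category.comp_id, pullbackSymmetry_hom_comp_snd, pullbackSpecIso_inv_fst, ← Spec.map_comp]
      congr 1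
      ext c
      exact χ.commutes c
    rw [this]
    exact (HasRingHomProperty.Spec_iff (P := @Smooth)).mpr (RingHom.smooth_algebraMap.mpr inferInstance)

end Groth.L20.GenSmooth
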